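import Cfsg.Agent.Lib.Hexad12.Rigid
import Cfsg.Agent.Lib.GolayUnique.PointFix
import Cfsg.Agent.Lib.Mathieu.Hexads
import Cfsg.Agent.Lib.Mathieu.Simple
import Cfsg.Agent.S0385
import Cfsg.Prelude.Def_Sporadic

/-!
Automorphism groups of S(5,6,12) and S(4,5,11), and uniqueness of the latter.
-/

set_option autoImplicit false

namespace Cfsg.Agent.Hexad12

open Finset
open scoped Pointwise

variable {α β : Type*} [Fintype α] [DecidableEq α] [Fintype β] [DecidableEq β] {B : Set (Finset α)}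

/-- Five points fixing every automorphism. -/
theorem exists_rigid_points (hα : Fintype.card α = 12) (hB : Cfsg.IsSteinerSystem 5 6 B) :
    ∃ x : Fin 5 ↪ α, ∀ σ ∈ Cfsg.setSystemAut B, (∀ i, σ (x i) = x i) → σ = 1 := by
  obtain ⟨T, -, hT⟩ := exists_subset_card_eq (s := (univ : Finset α)) (n := 3)
    (by rw [card_univ, hα]; norm_num)
  obtain ⟨e, -, he⟩ := exists_coords hα hB T hT
  refine ⟨(Fin.castLEEmb (by norm_num : 5 ≤ 12)).trans e.toEmbedding, fun σ hσ hfix => ?_⟩
  have h1 : e.symm.permCongr σ = 1 := by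
    refine std_rigid (fun c hc => ?_) fun x hx => ?_
    · rw [he, image_image]
      have : (⇑e ∘ ⇑(e.symm.permCongr σ)) = ⇑σ ∘ ⇑e := by funext y; simp [Equiv.permCongr_apply]
      rw [this, ← image_image]
      exact (GolayUnique.mem_setSystemAut_iff.1 hσ _).2 ((he c).1 hc)
    · rw [Equiv.permCongr_apply, Equiv.symm_symm, Equiv.symm_apply_eq]
      exact hfix ⟨x.val, hx⟩
  refine Equiv.ext fun p => ?_
  have := Equiv.ext_iff.1 h1 (e.symm p)
  simpa [Equiv.permCongr_apply] using this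

/-! ### The system on a dodecad -/

/-- The twelve points. -/
abbrev Pt12 : Type := {x : Cfsg.GolayPt // x ∈ Cfsg.Spor.squareDodecad}

/-- The hexads. -/
def hexD : Set (Finset Pt12) :=
  {h | ∃ o ∈ Cfsg.octads, (o ∩ Cfsg.Spor.squareDodecad).card = 6 ∧
    h = Finset.subtype (fun p => p ∈ Cfsg.Spor.squareDodecad) o}

theorem hexD_steiner : Cfsg.IsSteinerSystem 5 6 hexD :=
  S0385.result _ Mathieu.squareDodecad_mem

theorem card_pt12 : Fintype.card Pt12 = 12 := by
  rw [Fintype.card_coe]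
  exact Mathieu.squareDodecad_mem.2

theorem M12_maps (g : Cfsg.Spor.M12) (x : Cfsg.GolayPt) :
    g.1 x ∈ Cfsg.Spor.squareDodecad ↔ x ∈ Cfsg.Spor.squareDodecad := by
  have he : Cfsg.Spor.squareDodecad.image g.1 = Cfsg.Spor.squareDodecad := (Mathieu.mem_M12_iff.1 g.2).2
  conv_lhs => rw [← he]
  exact g.1.injective.mem_finset_image

theorem restrict_mem (g : Cfsg.Spor.M12) :
    (g.1.subtypePerm (M12_maps g) : Equiv.Perm Pt12) ∈ Cfsg.setSystemAut hexD := by
  have key : ∀ g : Cfsg.Spor.M12, ∀ h ∈ hexD, h.image (g.1.subtypePerm (M12_maps g)) ∈ hexD := by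
    rintro g _ ⟨o, ho, h6, rfl⟩
    have hd : Cfsg.Spor.squareDodecad.image g.1 = Cfsg.Spor.squareDodecad :=
      (Mathieu.mem_M12_iff.1 g.2).2
    refine ⟨o.image g.1, Mathieu.M24_smul_octad (Mathieu.mem_M12_iff.1 g.2).1 ho, ?_, ?_⟩
    · conv_lhs => rw [← hd, ← image_inter _ _ g.1.injective]
      rw [card_image_of_injective _ g.1.injective, h6]
    · ext y
      simp only [mem_image, mem_subtype]
      constructor
      · rintro ⟨x, hx, rfl⟩
        exact ⟨x.1, hx, rfl⟩
      · rintro ⟨x, hx, e⟩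
        exact ⟨⟨x, (M12_maps g x).1 (e ▸ y.2)⟩, hx, Subtype.ext e⟩
  rw [GolayUnique.mem_setSystemAut_iff]
  refine fun b => ⟨fun h => ?_, key g b⟩
  have := key g⁻¹ _ h
  rwa [image_image, show (⇑((g⁻¹ : Cfsg.Spor.M12).1.subtypePerm (M12_maps g⁻¹)) ∘
    ⇑(g.1.subtypePerm (M12_maps g))) = id from funext fun x => Subtype.ext (g.1.symm_apply_apply x.1),
    image_id] at this

/-- Restriction to the dodecad. -/
def restrict12 : Cfsg.Spor.M12 →* Cfsg.setSystemAut hexD where
  toFun g := ⟨g.1.subtypePerm (M12_maps g), restrict_mem g⟩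
  map_one' := Subtype.ext (Equiv.ext fun _ => rfl)
  map_mul' _ _ := Subtype.ext (Equiv.ext fun _ => rfl)

theorem restrict12_val (g : Cfsg.Spor.M12) (x : Pt12) :
    (((restrict12 g).1 x : Pt12) : Cfsg.GolayPt) = g.1 x := rfl

theorem hexD_aut : Function.Bijective restrict12 ∧
    MulAction.IsMultiplyPretransitive (Cfsg.setSystemAut hexD) Pt12 5 ∧
      ∀ σ ∈ Cfsg.setSystemAut hexD, ∀ x : Fin 5 ↪ Pt12, (∀ i, σ (x i) = x i) → σ = 1 := by
  obtain ⟨x0, hx0⟩ := exists_rigid_points card_pt12 hexD_steiner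
  have hext : ∀ x y : Fin 5 ↪ Pt12, ∃ g : Cfsg.Spor.M12, ∀ i, (restrict12 g).1 (x i) = y i := by
    intro x y
    obtain ⟨g, hg, h⟩ := Mathieu.M12_exists_map le_rfl (x.trans (Function.Embedding.subtype _))
      (y.trans (Function.Embedding.subtype _)) (fun i => (x i).2) (fun i => (y i).2)
    exact ⟨⟨g, hg⟩, fun i => Subtype.ext (h i)⟩
  have hsurj : Function.Surjective restrict12 := by
    intro σ
    obtain ⟨g, hg⟩ := hext x0 (x0.trans σ.1.toEmbedding)
    refine ⟨g, ?_⟩
    have h1 := hx0 _ (mul_mem (inv_mem (restrict12 g).2) σ.2) fun i => by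
      rw [Equiv.Perm.mul_apply, Equiv.Perm.inv_eq_iff_eq]
      exact (hg i).symm
    exact Subtype.ext (inv_mul_eq_one.1 h1)
  have hfix : ∀ g : Cfsg.Spor.M12, ∀ x : Fin 5 ↪ Pt12,
      (∀ i, (restrict12 g).1 (x i) = x i) → g = 1 := fun g x h =>
    Subtype.ext (Mathieu.M12_eq_one_of_fix g.2 (x.trans (Function.Embedding.subtype _))
      (fun i => (x i).2) fun i => congrArg Subtype.val (h i))
  refine ⟨⟨?_, hsurj⟩, ⟨fun x y => ?_⟩, ?_⟩
  · intro g h e
    rw [← inv_mul_eq_one]
    refine hfix _ x0 fun i => ?_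
    rw [map_mul, map_inv, e, inv_mul_cancel]
    rfl
  · obtain ⟨g, hg⟩ := hext x y
    exact ⟨restrict12 g, Function.Embedding.ext fun i => hg i⟩
  · intro σ hσ x h
    obtain ⟨g, hg⟩ := hsurj ⟨σ, hσ⟩
    have hgv : (restrict12 g).1 = σ := congrArg Subtype.val hg
    have := hfix g x fun i => by rw [hgv]; exact h i
    rw [← hgv, this, map_one]
    rfl

/-- Coordinates in the dodecad, with a given point at `0`. -/
theorem exists_to_hexD (hα : Fintype.card α = 12) (hB : Cfsg.IsSteinerSystem 5 6 B) (p : α)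
    (q : Pt12) : ∃ e : α ≃ Pt12, e p = q ∧ ∀ b : Finset α, b ∈ B ↔ b.image e ∈ hexD := by
  obtain ⟨e, he⟩ := exists_iso_12 hα card_pt12 hB hexD_steiner
  have := hexD_aut.2.1
  have h1 : MulAction.IsMultiplyPretransitive (Cfsg.setSystemAut hexD) Pt12 1 :=
    MulAction.isMultiplyPretransitive_of_le (n := 5) (by norm_num) (by rw [Nat.card_eq_fintype_card, card_pt12]; norm_num)
  obtain ⟨g, hg⟩ := h1.exists_smul_eq
    (⟨fun _ : Fin 1 => e p, Function.injective_of_subsingleton _⟩ : Fin 1 ↪ Pt12)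
    ⟨fun _ => q, Function.injective_of_subsingleton _⟩
  refine ⟨e.trans g.1, DFunLike.congr_fun hg 0, fun b => ?_⟩
  rw [he, ← GolayUnique.mem_setSystemAut_iff.1 g.2, image_image]
  rfl

theorem aut_12 (hα : Fintype.card α = 12) (hB : Cfsg.IsSteinerSystem 5 6 B) :
    Nonempty (Cfsg.setSystemAut B ≃* Cfsg.Spor.M12) ∧
      MulAction.IsMultiplyPretransitive (Cfsg.setSystemAut B) α 5 ∧
        ∀ x : Fin 5 ↪ α, MulAction.stabilizer (Cfsg.setSystemAut B) x = ⊥ := by
  obtain ⟨e, he⟩ := exists_iso_12 hα card_pt12 hB hexD_steiner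
  refine ⟨⟨(GolayUnique.autEquiv e he).trans (MulEquiv.ofBijective restrict12 hexD_aut.1).symm⟩,
    GolayUnique.isMultiplyPretransitive_transport e he hexD_aut.2.1, fun x => ?_⟩
  rw [Subgroup.eq_bot_iff_forall]
  intro σ hσ
  have h1 := hexD_aut.2.2 _ ((GolayUnique.permCongr_mem e he σ.1).2 σ.2) (x.trans e.toEmbedding)
    fun i => by
      have : (σ.1 : Equiv.Perm α) (x i) = x i := DFunLike.congr_fun hσ i
      simp [Equiv.permCongr_apply, this]
  refine Subtype.ext (Equiv.ext fun y => ?_)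
  have := Equiv.ext_iff.1 h1 (e y)
  simpa [Equiv.permCongr_apply] using this

/-! ### S(4,5,11) -/

/-- The blocks with the new point added, and their complements. -/
def extSys (B : Set (Finset α)) : Set (Finset (Option α)) :=
  {c | (∃ b ∈ B, c = insertNone b) ∨ ∃ b ∈ B, c = (insertNone b)ᶜ}

theorem interNum_zero_11 (hα : Fintype.card α = 11) (hB : Cfsg.IsSteinerSystem 4 5 B)
    {s : Finset α} (hs : s.card = 5) :
    (s ∈ B → Steiner.interNum B s 0 = 0) ∧ (s ∉ B → Steiner.interNum B s 0 = 1) := by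
  have h4 := Steiner.interNum_eq hB s (i := 4) le_rfl
  have h3 := Steiner.interNum_eq hB s (i := 3) (by norm_num)
  have h2 := Steiner.interNum_eq hB s (i := 2) (by norm_num)
  have h1 := Steiner.interNum_eq hB s (i := 1) (by norm_num)
  have h0 := Steiner.interNum_eq hB s (i := 0) (by norm_num)
  rw [hα, hs] at h4 h3 h2 h1 h0
  norm_num [Finset.sum_range_succ, Nat.choose] at h4 h3 h2 h1 h0
  constructor
  · intro hsB
    have h5 := Steiner.interNum_self_ne_zero hB hsB
    omega
  · intro hsB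
    have h5 : Steiner.interNum B s 5 = 0 := by
      rw [Steiner.interNum, card_eq_zero, filter_eq_empty_iff]
      intro c hc h
      rw [Steiner.mem_blocksF] at hc
      have e1 : c ∩ s = c := eq_of_subset_of_card_le inter_subset_left (by rw [h, hB.1 c hc])
      have e2 : c = s := eq_of_subset_of_card_le (e1 ▸ inter_subset_right) (by rw [hs, hB.1 c hc])
      exact hsB (e2 ▸ hc)
    omega

theorem insertNone_mem_extSys {b : Finset α} : insertNone b ∈ extSys B ↔ b ∈ B := by
  constructor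
  · rintro (⟨c, hc, e⟩ | ⟨c, hc, e⟩)
    · rwa [insertNone.injective e]
    · have := congrArg (fun s : Finset (Option α) => decide (none ∈ s)) e
      simp at this
  · exact fun h => Or.inl ⟨b, h, rfl⟩

theorem extSys_steiner (hα : Fintype.card α = 11) (hB : Cfsg.IsSteinerSystem 4 5 B) :
    Cfsg.IsSteinerSystem 5 6 (extSys B) := by
  refine ⟨?_, fun s hs => ?_⟩
  · rintro _ (⟨b, hb, rfl⟩ | ⟨b, hb, rfl⟩) <;>
      simp [card_compl, card_insertNone, hB.1 b hb, hα]
  set t := eraseNone s with ht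
  by_cases h0 : none ∈ s
  · have ht4 : t.card = 4 := by
      rw [ht, card_eraseNone_of_mem h0, hs]
    obtain ⟨b, ⟨hb, htb⟩, hu⟩ := hB.2 t ht4
    refine ⟨insertNone b, ⟨Or.inl ⟨b, hb, rfl⟩, fun x hx => ?_⟩, ?_⟩
    · rcases x with _ | x
      · simp
      · exact Finset.some_mem_insertNone.2 (htb (mem_eraseNone.2 hx))
    · rintro _ ⟨⟨c, hc, rfl⟩ | ⟨c, hc, rfl⟩, hsc⟩
      · rw [hu c ⟨hc, fun x hx => Finset.some_mem_insertNone.1 (hsc (mem_eraseNone.1 hx))⟩]
      · exact absurd (hsc h0) (by simp)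
  · have ht5 : t.card = 5 := by
      rw [ht, card_eraseNone_of_not_mem h0, hs]
    have hN : ∀ c ∈ B, s ⊆ (insertNone c)ᶜ ↔ (c ∩ t).card = 0 := by
      intro c _
      rw [card_eq_zero]
      constructor
      · intro h
        refine eq_empty_of_forall_notMem fun x hx => ?_
        rw [mem_inter, mem_eraseNone] at hx
        exact (mem_compl.1 (h hx.2)) (Finset.some_mem_insertNone.2 hx.1)
      · intro h x hx
        rcases x with _ | x
        · exact absurd hx h0
        · refine mem_compl.2 fun hc => notMem_empty x (h ▸ mem_inter.2 ⟨?_, mem_eraseNone.2 hx⟩)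
          exact Finset.some_mem_insertNone.1 hc
    have hP : ∀ c ∈ B, s ⊆ insertNone c → c = t := by
      intro c hc h
      exact (eq_of_subset_of_card_le (fun x hx => Finset.some_mem_insertNone.1
        (h (mem_eraseNone.1 hx))) (by rw [hB.1 c hc, ht5])).symm
    obtain ⟨h0B, h1B⟩ := interNum_zero_11 hα hB ht5
    by_cases htB : t ∈ B
    · refine ⟨insertNone t, ⟨Or.inl ⟨t, htB, rfl⟩, fun x hx => ?_⟩, ?_⟩
      · rcases x with _ | x
        · simp
        · exact Finset.some_mem_insertNone.2 (mem_eraseNone.2 hx)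
      · rintro _ ⟨⟨c, hc, rfl⟩ | ⟨c, hc, rfl⟩, hsc⟩
        · rw [hP c hc hsc]
        · have hz := h0B htB
          rw [Steiner.interNum, card_eq_zero, filter_eq_empty_iff] at hz
          exact absurd ((hN c hc).1 hsc) (hz (Steiner.mem_blocksF.2 hc))
    · obtain ⟨c, hc⟩ := card_eq_one.1 (h1B htB)
      have hcm := mem_singleton_self c
      rw [← hc, mem_filter, Steiner.mem_blocksF] at hcm
      refine ⟨(insertNone c)ᶜ, ⟨Or.inr ⟨c, hcm.1, rfl⟩, (hN c hcm.1).2 hcm.2⟩, ?_⟩
      rintro _ ⟨⟨d, hd, rfl⟩ | ⟨d, hd, rfl⟩, hsd⟩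
      · exact absurd (hP d hd hsd ▸ hd) htB
      · have : d ∈ ({c} : Finset (Finset α)) := by
          rw [← hc, mem_filter, Steiner.mem_blocksF]
          exact ⟨hd, (hN d hd).1 hsd⟩
        rw [mem_singleton.1 this]

theorem zero_mem_square : (some 0 : Cfsg.GolayPt) ∈ Cfsg.Spor.squareDodecad := by
  rw [Mathieu.squareDodecad_eq]; decide +kernel

/-- The point `0` of the dodecad. -/
def zeroPt : Pt12 := ⟨some 0, zero_mem_square⟩

theorem exists_to_hexD_11 (hα : Fintype.card α = 11) (hB : Cfsg.IsSteinerSystem 4 5 B) :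
    ∃ e : Option α ≃ Pt12, e none = zeroPt ∧
      ∀ c : Finset (Option α), c ∈ extSys B ↔ c.image e ∈ hexD :=
  exists_to_hexD (by rw [Fintype.card_option, hα]) (extSys_steiner hα hB) none zeroPt

/-- Any two Steiner systems S(4,5,11) are isomorphic. -/
theorem exists_iso_11 {B' : Set (Finset β)} (hα : Fintype.card α = 11) (hβ : Fintype.card β = 11)
    (hB : Cfsg.IsSteinerSystem 4 5 B) (hB' : Cfsg.IsSteinerSystem 4 5 B') :
    ∃ f : α ≃ β, ∀ b : Finset α, b ∈ B ↔ b.image f ∈ B' := by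
  obtain ⟨e, e0, he⟩ := exists_to_hexD_11 hα hB
  obtain ⟨e', e0', he'⟩ := exists_to_hexD_11 hβ hB'
  have h0 : (e.trans e'.symm) none = none := by
    rw [Equiv.trans_apply, e0, Equiv.symm_apply_eq, e0']
  obtain ⟨f, hf⟩ := GolayUnique.exists_removeNone (e.trans e'.symm) h0
  refine ⟨f, fun b => ?_⟩
  rw [← insertNone_mem_extSys (B := B), he, ← insertNone_mem_extSys (B := B'), he',
    ← GolayUnique.image_insertNone (e.trans e'.symm) f h0 hf, image_image]
  simp [Function.comp_def]

theorem optionCongr_mem {σ : Equiv.Perm α} (hσ : σ ∈ Cfsg.setSystemAut B) :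
    Equiv.optionCongr σ ∈ Cfsg.setSystemAut (extSys B) := by
  have key : ∀ σ ∈ Cfsg.setSystemAut B, ∀ c ∈ extSys B,
      c.image (Equiv.optionCongr σ) ∈ extSys B := by
    intro σ hσ c hc
    have hi : ∀ b : Finset α, (insertNone b).image (Equiv.optionCongr σ) = insertNone (b.image σ) :=
      fun b => GolayUnique.image_insertNone _ σ rfl (fun _ => rfl) b
    rw [GolayUnique.mem_setSystemAut_iff] at hσ
    rcases hc with ⟨b, hb, rfl⟩ | ⟨b, hb, rfl⟩
    · exact Or.inl ⟨_, (hσ b).2 hb, hi b⟩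
    · refine Or.inr ⟨_, (hσ b).2 hb, ?_⟩
      rw [← hi]
      ext y
      obtain ⟨x, rfl⟩ := (Equiv.optionCongr σ).surjective y
      simp only [mem_compl, (Equiv.optionCongr σ).injective.mem_finset_image]
  rw [GolayUnique.mem_setSystemAut_iff]
  refine fun c => ⟨fun h => ?_, key σ hσ c⟩
  have := key σ⁻¹ (inv_mem hσ) _ h
  rwa [image_image, show (⇑(Equiv.optionCongr σ⁻¹) ∘ ⇑(Equiv.optionCongr σ)) = id from
    funext fun x => by cases x <;> simp, image_id] at this

theorem aut_11 (hα : Fintype.card α = 11) (hB : Cfsg.IsSteinerSystem 4 5 B) :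
    Nonempty (Cfsg.setSystemAut B ≃* Cfsg.Spor.M11) ∧
      MulAction.IsMultiplyPretransitive (Cfsg.setSystemAut B) α 4 ∧
        ∀ x : Fin 4 ↪ α, MulAction.stabilizer (Cfsg.setSystemAut B) x = ⊥ := by
  obtain ⟨e, e0, he⟩ := exists_to_hexD_11 hα hB
  have hα' : Fintype.card (Option α) = 12 := by rw [Fintype.card_option, hα]
  set F : Cfsg.setSystemAut (extSys B) ≃* Cfsg.Spor.M12 :=
    (GolayUnique.autEquiv e he).trans (MulEquiv.ofBijective restrict12 hexD_aut.1).symm with hF
  have hFval : ∀ (τ : Cfsg.setSystemAut (extSys B)) (z : Option α),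
      ((F τ).1 (e z).1 : Cfsg.GolayPt) = (e (τ.1 z)).1 := by
    intro τ z
    have h : restrict12 (F τ) = GolayUnique.autEquiv e he τ :=
      (MulEquiv.ofBijective restrict12 hexD_aut.1).apply_symm_apply _
    rw [← restrict12_val, h]
    simp [GolayUnique.autEquiv, Equiv.permCongr_apply]
  let ω : Cfsg.setSystemAut B →* Cfsg.Spor.M12 :=
    F.toMonoidHom.comp
      { toFun := fun σ => ⟨Equiv.optionCongr σ.1, optionCongr_mem σ.2⟩
        map_one' := Subtype.ext (Equiv.ext fun x => by cases x <;> simp)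
        map_mul' := fun σ τ => Subtype.ext (Equiv.ext fun x => by cases x <;> simp) }
  have hωinj : Function.Injective ω := by
    intro σ τ h
    have h' := congrArg Subtype.val (F.injective h)
    exact Subtype.ext (Equiv.optionCongr_injective h')
  have hrange : ω.range = Cfsg.Spor.M11.subgroupOf Cfsg.Spor.M12 := by
    ext g
    rw [Subgroup.mem_subgroupOf, Mathieu.mem_M11_iff]
    obtain ⟨τ, rfl⟩ := F.surjective g
    have hkey : (F τ).1 (some 0) = some 0 ↔ τ.1 none = none := by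
      have h := hFval τ none
      rw [e0] at h
      change (F τ).1 (zeroPt : Pt12).1 = some 0 ↔ _
      rw [h]
      constructor
      · intro h'
        exact e.injective ((Subtype.ext h' : e (τ.1 none) = zeroPt).trans e0.symm)
      · intro h'
        rw [h', e0]; rfl
    constructor
    · rintro ⟨σ, hσ⟩
      refine ⟨(F τ).2, hkey.2 ?_⟩
      rw [← F.injective hσ]; rfl
    · rintro ⟨-, h⟩
      obtain ⟨f, hf⟩ := GolayUnique.exists_removeNone τ.1 (hkey.1 h)
      have hfm : f ∈ Cfsg.setSystemAut B := by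
        rw [GolayUnique.mem_setSystemAut_iff]
        intro b
        rw [← insertNone_mem_extSys (B := B), ← insertNone_mem_extSys (B := B) (b := b),
          ← GolayUnique.image_insertNone τ.1 f (hkey.1 h) hf,
          GolayUnique.mem_setSystemAut_iff.1 τ.2]
      refine ⟨⟨f, hfm⟩, ?_⟩
      show F _ = F τ
      congr 1
      refine Subtype.ext (Equiv.ext fun x => ?_)
      rcases x with _ | x
      · simp [hkey.1 h]
      · simp [hf]
  obtain ⟨-, ht, hs⟩ := aut_12 hα' (extSys_steiner hα hB)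
  have hcons : ∀ x : Fin 4 ↪ α, ∃ y : Fin 5 ↪ Option α,
      y 0 = none ∧ ∀ i : Fin 4, y i.succ = some (x i) := fun x =>
    ⟨⟨Fin.cons none (fun i => some (x i)), Fin.cons_injective_iff.2
      ⟨by simp, Option.some_injective _ |>.comp x.injective⟩⟩, rfl, fun i => by simp⟩
  refine ⟨⟨((MonoidHom.ofInjective hωinj).trans (MulEquiv.subgroupCongr hrange)).trans
    (Subgroup.subgroupOfEquivOfLe Mathieu.M11_le_M12)⟩, ⟨fun x x' => ?_⟩, fun x => ?_⟩
  · obtain ⟨y, hy0, hy⟩ := hcons x
    obtain ⟨y', hy0', hy'⟩ := hcons x'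
    obtain ⟨τ, hτ⟩ := ht.exists_smul_eq y y'
    have hτi : ∀ i, τ.1 (y i) = y' i := fun i => DFunLike.congr_fun hτ i
    have h0 : τ.1 none = none := by have := hτi 0; rwa [hy0, hy0'] at this
    obtain ⟨f, hf⟩ := GolayUnique.exists_removeNone τ.1 h0
    have hfm : f ∈ Cfsg.setSystemAut B := by
      rw [GolayUnique.mem_setSystemAut_iff]
      intro b
      rw [← insertNone_mem_extSys (B := B), ← insertNone_mem_extSys (B := B) (b := b),
        ← GolayUnique.image_insertNone τ.1 f h0 hf, GolayUnique.mem_setSystemAut_iff.1 τ.2]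
    refine ⟨⟨f, hfm⟩, Function.Embedding.ext fun i => ?_⟩
    have := hτi i.succ
    rw [hy, hy', hf] at this
    exact Option.some_injective _ this
  · rw [Subgroup.eq_bot_iff_forall]
    intro σ hσ
    obtain ⟨y, hy0, hy⟩ := hcons x
    have h1 := (Subgroup.eq_bot_iff_forall _).1 (hs y) ⟨Equiv.optionCongr σ.1, optionCongr_mem σ.2⟩ (by
      refine Function.Embedding.ext fun i => ?_
      show Equiv.optionCongr σ.1 (y i) = y i
      induction i using Fin.cases with
      | zero => rw [hy0]; rfl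
      | succ i =>
        rw [hy]
        show some (σ.1 (x i)) = some (x i)
        have hxi : σ.1 (x i) = x i := DFunLike.congr_fun hσ i
        rw [hxi])
    exact Subtype.ext (Equiv.optionCongr_injective ((congrArg Subtype.val h1).trans
      (Equiv.ext fun x => by cases x <;> simp)))

end Cfsg.Agent.Hexad12
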