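import Cfsg.Agent.Lib.Hexad12.Model
import Cfsg.Agent.Lib.Hexad22.Main

/-!
Every S(5,6,12) is the standard one: the derived plane of order 3 at three points, a colouring of its
54 arcs which is forced up to the names of the colours, and the complements.
-/

set_option autoImplicit false

namespace Cfsg.Agent.Hexad12

open Finset

/-! ### The affine plane of order 3 -/

section Plane

variable {β : Type*} [Fintype β] [DecidableEq β] {L : Set (Finset β)}
  (hβ : Fintype.card β = 9) (hL : Cfsg.IsSteinerSystem 2 3 L)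

/-- Lines equal to or missing `l`. -/
def Par (L : Set (Finset β)) (l m : Finset β) : Prop := m ∈ L ∧ (m = l ∨ Disjoint m l)

omit [Fintype β] in
include hL in
theorem line_inter {l m : Finset β} (hl : l ∈ L) (hm : m ∈ L) (hne : l ≠ m) :
    (l ∩ m).card ≤ 1 := by
  by_contra h
  obtain ⟨s, hs, hs2⟩ := exists_subset_card_eq (show 2 ≤ (l ∩ m).card by omega)
  exact hne ((hL.2 s hs2).unique ⟨hl, hs.trans inter_subset_left⟩ ⟨hm, hs.trans inter_subset_right⟩)

include hβ hL

/-- Through a point off a line there is exactly one line missing it. -/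
theorem existsUnique_disjoint {l : Finset β} (hl : l ∈ L) {p : β} (hp : p ∉ l) :
    ∃! m, m ∈ L ∧ p ∈ m ∧ Disjoint m l := by
  classical
  have hr := Steiner.card_through hL ({p} : Finset β) (by simp)
  simp [hβ, Nat.choose] at hr
  set F := (Steiner.blocksF L).filter fun c => p ∈ c with hF
  have key := card_mul_eq_card_mul (fun (x : β) (m : Finset β) => x ∈ m) (s := l)
    (t := F.filter fun m => ¬ Disjoint m l) (m := 1) (n := 1) ?_ ?_
  · have hsplit := card_filter_add_card_filter_not (s := F) (fun m => Disjoint m l)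
    rw [hL.1 l hl] at key
    obtain ⟨m, hm⟩ := card_eq_one.1 (by omega : (F.filter fun m => Disjoint m l).card = 1)
    refine ⟨m, ?_, fun m' hm' => ?_⟩
    · have := mem_singleton_self m
      rw [← hm, hF] at this
      simp only [mem_filter, Steiner.mem_blocksF] at this
      exact ⟨this.1.1, this.1.2, this.2⟩
    · rw [← mem_singleton (a := m), ← hm, hF]
      simp only [mem_filter, Steiner.mem_blocksF]
      exact ⟨⟨hm'.1, hm'.2.1⟩, hm'.2.2⟩
  · intro x hx
    obtain ⟨m, ⟨hm, hs⟩, hu⟩ := hL.2 {x, p} (card_pair fun e => hp (e ▸ hx))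
    refine card_eq_one.2 ⟨m, ?_⟩
    ext c
    simp only [bipartiteAbove, hF, mem_filter, Steiner.mem_blocksF, mem_singleton]
    constructor
    · exact fun h => hu c ⟨h.1.1.1, insert_subset h.2 (singleton_subset_iff.2 h.1.1.2)⟩
    · rintro rfl
      exact ⟨⟨⟨hm, hs (by simp)⟩, not_disjoint_iff.2 ⟨x, hs (by simp), hx⟩⟩, hs (by simp)⟩
  · intro m hm
    simp only [hF, mem_filter, Steiner.mem_blocksF] at hm
    have he : l.bipartiteBelow (fun x m => x ∈ m) m = l ∩ m := by ext x; simp [bipartiteBelow]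
    rw [he]
    refine le_antisymm (line_inter hL hl hm.1.1 fun e => hp (e ▸ hm.1.2)) (card_pos.2 ?_)
    obtain ⟨x, hxm, hxl⟩ := not_disjoint_iff.1 hm.2
    exact ⟨x, mem_inter.2 ⟨hxl, hxm⟩⟩

theorem exists_par {l : Finset β} (hl : l ∈ L) (p : β) : ∃! m, Par L l m ∧ p ∈ m := by
  by_cases hp : p ∈ l
  · refine ⟨l, ⟨⟨hl, Or.inl rfl⟩, hp⟩, fun m hm => ?_⟩
    rcases hm.1.2 with h | h
    · exact h
    · exact absurd hp (disjoint_left.1 h hm.2)
  · obtain ⟨m, ⟨hm, hpm, hd⟩, hu⟩ := existsUnique_disjoint hβ hL hl hp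
    refine ⟨m, ⟨⟨hm, Or.inr hd⟩, hpm⟩, fun m' hm' => ?_⟩
    rcases hm'.1.2 with h | h
    · exact absurd (h ▸ hm'.2) hp
    · exact hu m' ⟨hm'.1.1, hm'.2, h⟩

theorem par_disjoint {l m m' : Finset β} (hl : l ∈ L) (hm : Par L l m) (hm' : Par L l m')
    (hne : m ≠ m') : Disjoint m m' :=
  disjoint_left.2 fun p hp hp' => hne ((exists_par hβ hL hl p).unique ⟨hm, hp⟩ ⟨hm', hp'⟩)

/-- A parallel class, numbered. -/
theorem exists_class {l : Finset β} (hl : l ∈ L) : ∃ c : Fin 3 → Finset β, (∀ i, Par L l (c i)) ∧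
    Function.Injective c ∧ ∀ p, ∃ i, p ∈ c i := by
  classical
  set P := (Steiner.blocksF L).filter fun m => Par L l m with hP
  have hmem : ∀ m, m ∈ P ↔ Par L l m := fun m => by
    rw [hP, mem_filter, Steiner.mem_blocksF]
    exact ⟨fun h => h.2, fun h => ⟨h.1, h⟩⟩
  have h9 : P.biUnion id = univ := by
    refine eq_univ_of_forall fun p => ?_
    obtain ⟨m, ⟨hm, hpm⟩, -⟩ := exists_par hβ hL hl p
    exact mem_biUnion.2 ⟨m, (hmem m).2 hm, hpm⟩
  have hd : (P : Set (Finset β)).PairwiseDisjoint id := fun m hm m' hm' hne =>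
    par_disjoint hβ hL hl ((hmem m).1 hm) ((hmem m').1 hm') hne
  have hc := congrArg card h9
  rw [card_biUnion hd, card_univ, hβ,
    sum_congr rfl fun m hm => (show (id m).card = 3 from hL.1 m ((hmem m).1 hm).1),
    sum_const, smul_eq_mul] at hc
  let c := (P.equivFinOfCardEq (by omega : P.card = 3)).symm
  refine ⟨fun i => (c i : Finset β), fun i => (hmem _).1 (c i).2,
    Subtype.val_injective.comp c.injective, fun p => ?_⟩
  obtain ⟨m, ⟨hm, hpm⟩, -⟩ := exists_par hβ hL hl p
  exact ⟨c.symm ⟨m, (hmem m).2 hm⟩, by simpa using hpm⟩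

/-- The points `3, …, 11` of the standard plane. -/
abbrev PlanePt : Type := {x : Fin 12 // 3 ≤ x.val}

/-- The row and the column. -/
def cell (x : PlanePt) : Fin 3 × Fin 3 :=
  (⟨(x.1.val - 3) % 3, Nat.mod_lt _ (by norm_num)⟩, ⟨(x.1.val - 3) / 3 % 3, Nat.mod_lt _ (by norm_num)⟩)

omit hβ hL in
theorem cell_bijective : Function.Bijective cell := by
  refine (Fintype.bijective_iff_injective_and_card _).2 ⟨?_, rfl⟩
  unfold Function.Injective; decide +kernel

omit hβ hL in
theorem axis_check : ∀ i : Fin 3,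
    (∃ l ∈ axisMasks, ∀ x : PlanePt, x.1 ∈ pts l ↔ (cell x).1 = i) ∧
    ∃ l ∈ axisMasks, ∀ x : PlanePt, x.1 ∈ pts l ↔ (cell x).2 = i := by decide +kernel

omit hβ hL in
theorem axis_cover : ∀ l ∈ axisMasks,
    (∃ i, ∀ x : PlanePt, x.1 ∈ pts l ↔ (cell x).1 = i) ∨
      ∃ i, ∀ x : PlanePt, x.1 ∈ pts l ↔ (cell x).2 = i := by decide +kernel

omit hβ hL in
theorem axis_plane : ∀ l ∈ axisMasks, l < 4096 ∧ ∀ x ∈ pts l, 3 ≤ x.val := by decide +kernel

omit hβ hL in
theorem trans_check' : ∀ a : Fin 8, ∀ b : Fin 64,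
    bits (8 * (64 * a.val + b.val)) = 3 →
    (∀ l ∈ axisMasks, 8 * (64 * a.val + b.val) ≠ l → bits (l &&& 8 * (64 * a.val + b.val)) ≤ 1) →
      8 * (64 * a.val + b.val) ∈ lineMasks := by decide +kernel

omit hβ hL in
theorem trans_check (m : ℕ) (hm : m < 4096) (h7 : m &&& 7 = 0) (h3 : bits m = 3)
    (ha : ∀ l ∈ axisMasks, m ≠ l → bits (l &&& m) ≤ 1) : m ∈ lineMasks := by
  have h8 : m % 2 ^ 3 = 0 := by rw [← Nat.and_two_pow_sub_one_eq_mod]; exact h7
  obtain ⟨c, rfl⟩ : ∃ c, m = 8 * c := ⟨m / 8, by omega⟩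
  obtain ⟨a, b, rfl⟩ : ∃ a : Fin 8, ∃ b : Fin 64, c = 64 * a.val + b.val :=
    ⟨⟨c / 64, by omega⟩, ⟨c % 64, Nat.mod_lt _ (by norm_num)⟩, by simp only; omega⟩
  exact trans_check' a b h3 ha

theorem exists_plane : ∃ g : PlanePt ≃ β, ∀ m ∈ lineMasks,
    (((pts m).subtype fun x => 3 ≤ x.val).image g) ∈ L := by
  classical
  obtain ⟨p0⟩ : Nonempty β := Fintype.card_pos_iff.1 (by omega)
  obtain ⟨q0, hq0⟩ : (univ.erase p0).Nonempty :=
    card_pos.1 (by rw [card_erase_of_mem (mem_univ p0), card_univ, hβ]; norm_num)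
  obtain ⟨l0, ⟨hl0, hs0⟩, -⟩ := hL.2 {p0, q0} (card_pair (mem_erase.1 hq0).1.symm)
  obtain ⟨r, hr⟩ : l0ᶜ.Nonempty := card_pos.1 (by rw [card_compl, hβ, hL.1 _ hl0]; norm_num)
  rw [mem_compl] at hr
  have hp0r : p0 ≠ r := fun e => hr (e ▸ hs0 (by simp))
  obtain ⟨l1, ⟨hl1, hs1⟩, -⟩ := hL.2 {p0, r} (card_pair hp0r)
  obtain ⟨c, hc, hcinj, hccov⟩ := exists_class hβ hL hl0
  obtain ⟨d, hd, hdinj, hdcov⟩ := exists_class hβ hL hl1
  -- the two classes are different
  have hcd : ∀ i j, c i ≠ d j := by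
    intro i j e
    have h1 : Par L l0 (c i) := hc i
    have h2 : Par L l1 (c i) := e ▸ hd j
    obtain ⟨x, hx⟩ : (c i).Nonempty := card_pos.1 (by rw [hL.1 _ h1.1]; norm_num)
    have hne : l0 ≠ l1 := fun e => hr (e ▸ hs1 (by simp))
    have hp0a : p0 ∈ l0 := hs0 (by simp)
    have hp0b : p0 ∈ l1 := hs1 (by simp)
    rcases h1.2 with a | a <;> rcases h2.2 with b | b
    · exact hne (a.symm.trans b)
    · exact disjoint_left.1 b (a.symm ▸ hp0a) hp0b
    · exact disjoint_left.1 a (b.symm ▸ hp0b) hp0a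
    · obtain ⟨m, -, hu⟩ := existsUnique_disjoint hβ hL h1.1
        (fun h => disjoint_left.1 a h (hs0 (by simp)) : p0 ∉ c i)
      exact hne ((hu l0 ⟨hl0, hs0 (by simp), a.symm⟩).trans (hu l1 ⟨hl1, hs1 (by simp), b.symm⟩).symm)
  choose fc hfc using hccov
  choose fd hfd using hdcov
  have huc : ∀ p i, p ∈ c i → fc p = i := fun p i h =>
    hcinj ((exists_par hβ hL hl0 p).unique ⟨hc _, hfc p⟩ ⟨hc i, h⟩)
  have hud : ∀ p i, p ∈ d i → fd p = i := fun p i h =>
    hdinj ((exists_par hβ hL hl1 p).unique ⟨hd _, hfd p⟩ ⟨hd i, h⟩)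
  have hf : Function.Bijective fun p => (fc p, fd p) := by
    refine (Fintype.bijective_iff_injective_and_card _).2 ⟨fun p q h => ?_, by simp [hβ]⟩
    rw [Prod.mk.injEq] at h
    exact card_le_one.1 (line_inter hL (hc _).1 (hd _).1 (hcd (fc p) (fd p))) p
      (mem_inter.2 ⟨hfc p, hfd p⟩) q (mem_inter.2 ⟨h.1 ▸ hfc q, h.2 ▸ hfd q⟩)
  set g : PlanePt ≃ β := (Equiv.ofBijective _ cell_bijective).trans (Equiv.ofBijective _ hf).symm
  have hg : ∀ x, (fc (g x), fd (g x)) = cell x := fun x =>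
    (Equiv.ofBijective _ hf).apply_symm_apply (cell x)
  refine ⟨g, fun m hm => ?_⟩
  -- the axes are lines
  have haxis : ∀ m ∈ axisMasks, (((pts m).subtype fun x => 3 ≤ x.val).image g) ∈ L := by
    intro m hm
    rcases axis_cover m hm with ⟨i, hi⟩ | ⟨i, hi⟩
    · have : ((pts m).subtype fun x => 3 ≤ x.val).image g = c i := by
        ext p
        obtain ⟨x, rfl⟩ := g.surjective p
        rw [g.injective.mem_finset_image, mem_subtype, hi, ← hg x]
        exact ⟨fun h => h ▸ hfc _, huc _ _⟩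
      exact this ▸ (hc i).1
    · have : ((pts m).subtype fun x => 3 ≤ x.val).image g = d i := by
        ext p
        obtain ⟨x, rfl⟩ := g.surjective p
        rw [g.injective.mem_finset_image, mem_subtype, hi, ← hg x]
        exact ⟨fun h => h ▸ hfd _, hud _ _⟩
      exact this ▸ (hd i).1
  -- every line is one of the twelve
  have hsub : Steiner.blocksF L ⊆ lineMasks.toFinset.image fun m =>
      ((pts m).subtype fun x => 3 ≤ x.val).image g := by
    intro l hl
    rw [Steiner.mem_blocksF] at hl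
    set S := (l.image g.symm).map (Function.Embedding.subtype _) with hS
    obtain ⟨k, hk, hkS⟩ : ∃ k < 4096, pts k = S := by
      have hinj : Function.Injective fun k : Fin 4096 => pts k := fun a b h =>
        Fin.ext (pts_inj a.isLt b.isLt h)
      obtain ⟨k, hk⟩ := ((Fintype.bijective_iff_injective_and_card _).2
        ⟨hinj, by simp⟩).2 S
      exact ⟨k, k.isLt, hk⟩
    have hsubS : ((pts k).subtype fun x => 3 ≤ x.val).image g = l := by
      rw [hkS, hS]
      ext p
      simp only [mem_image, mem_subtype, mem_map, Function.Embedding.coe_subtype]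
      constructor
      · rintro ⟨x, ⟨y, ⟨q, hq, rfl⟩, hxy⟩, rfl⟩
        obtain rfl := Subtype.ext hxy
        rwa [g.apply_symm_apply]
      · exact fun hp => ⟨g.symm p, ⟨_, ⟨p, hp, rfl⟩, rfl⟩, g.apply_symm_apply p⟩
    refine mem_image.2 ⟨k, List.mem_toFinset.2 (trans_check k hk ?_ ?_ ?_), hsubS⟩
    · refine Nat.eq_of_testBit_eq fun i => ?_
      rw [Nat.zero_testBit, Nat.testBit_and]
      by_contra hne
      rw [Bool.not_eq_false, Bool.and_eq_true] at hne
      have h7 : i < 3 := by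
        by_contra h
        have : (7 : ℕ).testBit i = false :=
          Nat.testBit_lt_two_pow (lt_of_lt_of_le (by norm_num : 7 < 2 ^ 3)
            (Nat.pow_le_pow_right (by norm_num) (not_lt.1 h)))
        rw [this] at hne; exact Bool.false_ne_true hne.2
      have hx : (⟨i, by omega⟩ : Fin 12) ∈ pts k := by simp [pts, hne.1]
      rw [hkS, hS, mem_map] at hx
      obtain ⟨y, -, hy⟩ := hx
      have := y.2
      have h' : y.1.val = i := congrArg Fin.val hy
      omega
    · rw [← card_pts, hkS, hS, card_map, card_image_of_injective _ g.symm.injective, hL.1 l hl]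
    · intro a ha hne
      have hla := haxis a ha
      rw [← card_pts, pts_inter]
      by_cases he : ((pts a).subtype fun x => 3 ≤ x.val).image g = l
      · obtain ⟨ha', ha3⟩ := axis_plane a ha
        refine absurd (pts_inj hk ha' ?_) hne
        rw [hkS, hS, ← he, image_image, Equiv.symm_comp_self, image_id, subtype_map]
        exact filter_true_of_mem ha3
      · have h1 := line_inter hL hla hl he
        refine le_trans ?_ h1
        rw [hkS, hS]
        refine card_le_card_of_injOn (fun x => if hx : 3 ≤ x.val then g ⟨x, hx⟩ else p0)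
          (fun x hx => ?_) (fun x hx y hy hxy => ?_)
        · obtain ⟨hxa, hxS⟩ := mem_inter.1 hx
          obtain ⟨z, hz, rfl⟩ := mem_map.1 hxS
          obtain ⟨q, hq, rfl⟩ := mem_image.1 hz
          have h3 : 3 ≤ (Function.Embedding.subtype _ (g.symm q)).val := (g.symm q).2
          simp only [mem_coe, dif_pos h3]
          exact mem_inter.2 ⟨mem_image_of_mem g (mem_subtype.2 hxa), by simpa using hq⟩
        · obtain ⟨-, hxS⟩ := mem_inter.1 hx
          obtain ⟨-, hyS⟩ := mem_inter.1 hy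
          obtain ⟨u, -, rfl⟩ := mem_map.1 hxS
          obtain ⟨v, -, rfl⟩ := mem_map.1 hyS
          have hu : 3 ≤ (Function.Embedding.subtype (fun x : Fin 12 => 3 ≤ x.val) u).val := u.2
          have hv : 3 ≤ (Function.Embedding.subtype (fun x : Fin 12 => 3 ≤ x.val) v).val := v.2
          simp only [dif_pos hu, dif_pos hv] at hxy
          exact congrArg Subtype.val (g.injective hxy)
  have hcardL : (Steiner.blocksF L).card = 12 := by
    have := Steiner.card_through hL (∅ : Finset β) (by simp)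
    simp [filter_true_of_mem, hβ, Nat.choose] at this
    omega
  have heq := eq_of_subset_of_card_le hsub (card_image_le.trans ((List.toFinset_card_le _).trans
    (by rw [hcardL]; decide)))
  rw [← Steiner.mem_blocksF, heq]
  exact mem_image_of_mem _ (List.mem_toFinset.2 hm)

end Plane

end Cfsg.Agent.Hexad12
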