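import Mathlib

/-!
Finite data on twelve points `0, ..., 11`: three letters `0, 1, 2` and the affine plane of order 3 on
`3, ..., 11`; its twelve lines, its 54 four-point arcs with their colours, and an order in which the
colours are forced.
-/

set_option autoImplicit false

namespace Cfsg.Agent.Hexad12

open Finset

/-- The points with mask `m`. -/
def pts (m : ℕ) : Finset (Fin 12) := univ.filter fun x => m.testBit x.val

/-- Number of bits. -/
def bits (m : ℕ) : ℕ := ((List.range 12).filter fun i => m.testBit i).length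

/-- Masks of the rows and the columns. -/
def axisMasks : List ℕ := [56, 448, 3584, 584, 1168, 2336]

/-- Masks of the other six lines. -/
def transMasks : List ℕ := [2184, 1288, 2128, 1120, 784, 672]

/-- Masks of the twelve lines. -/
def lineMasks : List ℕ := axisMasks ++ transMasks

/-- Three arcs on a common triple, with their colours. -/
def seeds : List (ℕ × Fin 3) := [
  (216, 0), (344, 1), (1112, 2)]

/-- Each further arc with its colour and two earlier neighbours. -/
def steps : List (ℕ × Fin 3 × ℕ × ℕ) := [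
  (408, 2, 216, 344), (664, 1, 216, 408), (2328, 0, 344, 408), (1560, 0, 664, 1112),
  (2584, 2, 1560, 664), (3096, 1, 1560, 2584), (1224, 1, 216, 1112), (232, 2, 216, 1224),
  (360, 0, 344, 232), (2152, 1, 360, 232), (424, 1, 360, 232), (1192, 0, 424, 232),
  (808, 2, 360, 424), (1576, 1, 1192, 808), (2600, 0, 1576, 808), (3112, 2, 2600, 1576),
  (2376, 2, 360, 2152), (3144, 0, 2152, 2376), (904, 0, 424, 808), (1672, 2, 904, 1576),
  (2824, 1, 904, 2376), (240, 1, 216, 232), (368, 2, 360, 240), (624, 0, 240, 368),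
  (432, 0, 240, 368), (2224, 2, 432, 240), (1328, 1, 432, 368), (1584, 2, 624, 1328),
  (2608, 1, 624, 1584), (3120, 0, 2608, 1584), (720, 2, 624, 240), (1360, 0, 1328, 368),
  (1616, 1, 1360, 720), (2448, 1, 432, 2224), (2704, 0, 2448, 720), (3344, 2, 1360, 2448),
  (2272, 0, 240, 2224), (864, 1, 624, 368), (2656, 2, 2272, 864), (1440, 2, 432, 1328),
  (3232, 1, 2272, 1440), (1824, 0, 864, 1440), (1728, 0, 1616, 720), (2752, 1, 1728, 2656),
  (3264, 2, 1728, 2752), (1856, 2, 1728, 864), (2880, 0, 2752, 1856), (3392, 1, 2880, 1856),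
  (1920, 1, 1728, 1856), (2944, 2, 2880, 1920), (3456, 0, 1920, 2944)]

/-- All arcs with colours. -/
def arcs : List (ℕ × Fin 3) := seeds ++ steps.map fun s => (s.1, s.2.1)

/-- Masks of the arcs. -/
def arcMasks : List ℕ := arcs.map Prod.fst

/-- An arc without its last point. -/
def tri (m : ℕ) : ℕ := m - 2 ^ Nat.log2 m

/-- The two letters other than `k`. -/
def pairMask (k : Fin 3) : ℕ := 7 - 2 ^ k.val

/-- The mask of a would-be block: two letters and an arc. -/
def blk (k : Fin 3) (m : ℕ) : ℕ := pairMask k ||| m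

/-- Half of the blocks; the others are their complements. -/
def halfMasks : List ℕ := lineMasks.map (fun l => 7 ||| l) ++ arcs.map fun p => blk p.2 p.1

/-- The blocks. -/
def blockMasks : List ℕ := halfMasks ++ halfMasks.map fun m => 4095 - m

/-- The standard system. -/
def stdBlocks : Finset (Finset (Fin 12)) := blockMasks.toFinset.image pts

theorem card_pts (m : ℕ) : (pts m).card = bits m := by
  have : bits m = ((Finset.range 12).filter fun i => m.testBit i).card := by
    simp only [bits, Finset.card_def, Finset.filter_val, Finset.range_val, Multiset.range,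
      Multiset.filter_coe, Multiset.coe_card, Bool.decide_eq_true]
  rw [this]
  refine card_bij (fun x _ => x.val) (fun x hx => ?_) (fun x _ y _ h => Fin.ext h) fun i hi => ?_
  · simp only [pts, mem_filter, mem_univ, true_and] at hx
    exact mem_filter.2 ⟨mem_range.2 x.isLt, hx⟩
  · rw [mem_filter, mem_range] at hi
    exact ⟨⟨i, hi.1⟩, by simp [pts, hi.2], rfl⟩

theorem pts_inter (l m : ℕ) : pts (l &&& m) = pts l ∩ pts m := by
  ext x; simp [pts, Nat.testBit_and]

theorem pts_inj {l m : ℕ} (hl : l < 4096) (hm : m < 4096) (h : pts l = pts m) : l = m := by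
  refine Nat.eq_of_testBit_eq fun i => ?_
  by_cases hi : i < 12
  · have := congrArg (fun s : Finset (Fin 12) => decide ((⟨i, hi⟩ : Fin 12) ∈ s)) h
    simpa [pts] using this
  · have h12 : 4096 ≤ 2 ^ i :=
      (show 4096 = 2 ^ 12 by norm_num).le.trans (Nat.pow_le_pow_right (by norm_num) (not_lt.1 hi))
    rw [Nat.testBit_lt_two_pow (lt_of_lt_of_le hl h12),
      Nat.testBit_lt_two_pow (lt_of_lt_of_le hm h12)]

theorem pts_compl (m : ℕ) : m < 4096 → pts (4095 - m) = (pts m)ᶜ := by
  intro hm
  have h : 4095 - m = 2 ^ 12 - (m + 1) := by omega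
  ext x
  rw [h, mem_compl]
  simp only [pts, mem_filter, mem_univ, true_and]
  rw [Nat.testBit_two_pow_sub_succ (show m < 2 ^ 12 by omega)]
  simp [x.isLt]

/-- The arcs above a common triple. -/
def near (m : ℕ) : List ℕ := arcMasks.filter fun a => tri m &&& a == tri m

theorem masks_lt : (∀ m ∈ halfMasks, m < 4096) ∧ (∀ m ∈ arcMasks, m < 4096) ∧
    ∀ m ∈ blockMasks, m < 4096 := by decide +kernel

theorem blockMasks_nodup : blockMasks.Nodup := by decide +kernel

theorem blockMasks_length : blockMasks.length = 132 := by decide +kernel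

theorem near_check : ∀ m ∈ arcMasks, m ∈ near m ∧ (near m).length = 3 ∧
    ∀ k : Fin 3, bits (pairMask k ||| tri m) = 5 := by decide +kernel

theorem sixth_check : ∀ m ∈ arcMasks, ∀ k : Fin 3, ∀ x : Fin 12,
    let b := pairMask k ||| tri m ||| 2 ^ x.val
    bits b = 6 → (∃ l ∈ lineMasks, 7 ||| l ≠ b ∧ 5 ≤ bits ((7 ||| l) &&& b)) ∨
      ∃ a ∈ near m, b = blk k a := by decide +kernel

theorem blk_check : ∀ j k : Fin 3, j ≠ k → ∀ a ∈ arcMasks,
    blk j a ≠ blk k a ∧ 5 ≤ bits (blk j a &&& blk k a) := by decide +kernel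

theorem adj_check : ∀ s ∈ steps, ∀ k : Fin 3,
    (blk k s.2.2.1 ≠ blk k s.1 ∧ 5 ≤ bits (blk k s.2.2.1 &&& blk k s.1)) ∧
      blk k s.2.2.2 ≠ blk k s.1 ∧ 5 ≤ bits (blk k s.2.2.2 &&& blk k s.1) := by decide +kernel

theorem seed_check : ∀ s ∈ seeds, ∀ t ∈ seeds, s.2 ≠ t.2 → ∀ k : Fin 3,
    blk k s.1 ≠ blk k t.1 ∧ 5 ≤ bits (blk k s.1 &&& blk k t.1) := by decide +kernel

/-- Is each step forced by the ones known before it? -/
def forced : List (ℕ × Fin 3) → List (ℕ × Fin 3 × ℕ × ℕ) → Bool
  | _, [] => true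
  | known, (m, c, a, b) :: rest =>
    (known.any fun p => p.1 == a && known.any fun q => q.1 == b &&
      decide (p.2 ≠ q.2 ∧ c ≠ p.2 ∧ c ≠ q.2)) && forced (known ++ [(m, c)]) rest

theorem forced_steps : forced seeds steps = true := by decide +kernel

end Cfsg.Agent.Hexad12
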