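import Cfsg.Agent.Lib.Hexad12.System
import Cfsg.Agent.Lib.GolayUnique.Transport

/-!
An automorphism of the standard S(5,6,12) fixing the three letters and two plane points is trivial.
-/

set_option autoImplicit false

namespace Cfsg.Agent.Hexad12

open Finset

/-- The third point of a line of the plane. -/
def th (a b : Fin 12) : Fin 12 :=
  ⟨3 + (6 - (a.val - 3) % 3 - (b.val - 3) % 3) % 3 +
      3 * ((6 - (a.val - 3) / 3 % 3 - (b.val - 3) / 3 % 3) % 3), by omega⟩

/-- The mask of the letters and three points. -/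
def mask3 (a b c : Fin 12) : ℕ := 7 ||| 2 ^ a.val ||| 2 ^ b.val ||| 2 ^ c.val

theorem mask3_lt (a b c : Fin 12) : mask3 a b c < 4096 := by
  have h : ∀ x : Fin 12, 2 ^ x.val < 2 ^ 12 := fun x => Nat.pow_lt_pow_right (by norm_num) x.isLt
  rw [show (4096 : ℕ) = 2 ^ 12 by norm_num]
  exact Nat.or_lt_two_pow (Nat.or_lt_two_pow (Nat.or_lt_two_pow (by norm_num) (h a)) (h b)) (h c)

theorem th_mem : ∀ a b : Fin 12, 3 ≤ a.val → 3 ≤ b.val → a ≠ b →
    mask3 a b (th a b) ∈ blockMasks ∧ th a b ≠ a ∧ th a b ≠ b ∧ 3 ≤ (th a b).val := by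
  decide +kernel

theorem th_unique : ∀ a b c : Fin 12, 3 ≤ a.val → 3 ≤ b.val → 3 ≤ c.val → a ≠ b → c ≠ a → c ≠ b →
    mask3 a b c ∈ blockMasks → c = th a b := by decide +kernel

/-- The map determined by the image of the point `6`. -/
def vec (r : Fin 12) : Fin 12 → Fin 12 :=
  ![0, 1, 2, 3, 4, 5, r, th 5 (th 3 r), th 4 (th 3 r), th 3 r, th 5 r, th 4 r]

theorem vec_check : ∀ r : Fin 12, 7 ≤ r.val →
    ∃ m ∈ blockMasks, ∀ m' ∈ blockMasks, (pts m).image (vec r) ≠ pts m' := by decide +kernel

theorem vec_six : ∀ x, vec 6 x = x := by decide +kernel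

theorem pts_two_pow (x : Fin 12) : pts (2 ^ x.val) = {x} := by
  ext y
  simp [pts, Nat.testBit_two_pow, Fin.ext_iff, eq_comm]

theorem pts_seven : pts 7 = {0, 1, 2} := by decide +kernel

theorem pts_mask3 (a b c : Fin 12) : pts (mask3 a b c) = {0, 1, 2} ∪ {a} ∪ {b} ∪ {c} := by
  rw [mask3, pts_or, pts_or, pts_or, pts_two_pow, pts_two_pow, pts_two_pow, pts_seven]

theorem mem_stdBlocks {m : ℕ} (hm : m < 4096) : pts m ∈ stdBlocks ↔ m ∈ blockMasks := by
  rw [stdBlocks, mem_image]
  constructor
  · rintro ⟨k, hk, e⟩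
    rw [List.mem_toFinset] at hk
    rwa [← pts_inj (masks_lt.2.2 k hk) hm e]
  · exact fun h => ⟨m, List.mem_toFinset.2 h, rfl⟩

theorem std_rigid {σ : Equiv.Perm (Fin 12)}
    (hσ : ∀ c, c ∈ stdBlocks → c.image σ ∈ stdBlocks) (hfix : ∀ x : Fin 12, x.val < 5 → σ x = x) :
    σ = 1 := by
  have h0 : σ 0 = 0 := hfix 0 (by decide)
  have h1 : σ 1 = 1 := hfix 1 (by decide)
  have h2 : σ 2 = 2 := hfix 2 (by decide)
  have h3 : σ 3 = 3 := hfix 3 (by decide)
  have h4 : σ 4 = 4 := hfix 4 (by decide)
  have hge : ∀ x : Fin 12, 3 ≤ x.val → 3 ≤ (σ x).val := by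
    intro x hx
    by_contra h
    have : σ (σ x) = σ x := hfix _ (by omega)
    rw [σ.injective this] at h
    omega
  have hth : ∀ a b : Fin 12, 3 ≤ a.val → 3 ≤ b.val → a ≠ b → σ (th a b) = th (σ a) (σ b) := by
    intro a b ha hb hab
    obtain ⟨hm, hca, hcb, hc⟩ := th_mem a b ha hb hab
    refine th_unique _ _ _ (hge a ha) (hge b hb) (hge _ hc) (σ.injective.ne hab)
      (σ.injective.ne hca) (σ.injective.ne hcb) ?_
    rw [← mem_stdBlocks (mask3_lt _ _ _)]
    have := hσ _ ((mem_stdBlocks (mask3_lt _ _ _)).2 hm)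
    rwa [pts_mask3, image_union, image_union, image_union, image_singleton, image_singleton,
      image_singleton, image_insert, image_insert, image_singleton, h0, h1, h2, ← pts_mask3] at this
  have h5 : σ 5 = 5 := by
    have := hth 3 4 (by decide) (by decide) (by decide)
    rwa [h3, h4, show th 3 4 = 5 by decide] at this
  set r := σ 6 with hr
  have h9 : σ 9 = th 3 r := by
    have := hth 3 6 (by decide) (by decide) (by decide)
    rwa [h3, show th 3 6 = 9 by decide, ← hr] at this
  have h11 : σ 11 = th 4 r := by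
    have := hth 4 6 (by decide) (by decide) (by decide)
    rwa [h4, show th 4 6 = 11 by decide, ← hr] at this
  have h10 : σ 10 = th 5 r := by
    have := hth 5 6 (by decide) (by decide) (by decide)
    rwa [h5, show th 5 6 = 10 by decide, ← hr] at this
  have h8 : σ 8 = th 4 (th 3 r) := by
    have := hth 4 9 (by decide) (by decide) (by decide)
    rwa [h4, h9, show th 4 9 = 8 by decide] at this
  have h7 : σ 7 = th 5 (th 3 r) := by
    have := hth 5 9 (by decide) (by decide) (by decide)
    rwa [h5, h9, show th 5 9 = 7 by decide] at this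
  have hvec : ⇑σ = vec r := by
    funext x
    fin_cases x <;> assumption
  have h6 : 6 ≤ r.val := by
    have hne : ∀ y : Fin 12, y.val < 6 → σ y = y := by
      intro y hy
      rcases (show y.val < 5 ∨ y.val = 5 by omega) with h | h
      · exact hfix y h
      · rw [show y = 5 from Fin.ext h]; exact h5
    by_contra h
    have := σ.injective ((hne r (by omega)).trans hr)
    rw [this] at h
    exact h le_rfl
  have hr6 : r = 6 := by
    by_contra hne
    obtain ⟨m, hm, hbad⟩ := vec_check r (by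
      rcases Nat.lt_or_ge r.val 7 with h | h
      · exact absurd (Fin.ext (show r.val = 6 by omega)) hne
      · exact h)
    have := hσ _ ((mem_stdBlocks (masks_lt.2.2 m hm)).2 hm)
    rw [hvec, stdBlocks, mem_image] at this
    obtain ⟨m', hm', e⟩ := this
    exact hbad m' (List.mem_toFinset.1 hm') e.symm
  refine Equiv.ext fun x => ?_
  rw [hvec, hr6, vec_six]
  rfl

end Cfsg.Agent.Hexad12
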