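import Cfsg.Agent.Lib.Hexad12.Main

/-!
An S(5,6,12) on the standard points whose derived plane at the three letters is the standard one is,
after renaming the letters, the standard system; coordinates for every S(5,6,12).
-/

set_option autoImplicit false

namespace Cfsg.Agent.Hexad12

open Finset

section Standard

variable {A : Set (Finset (Fin 12))} (hA : Cfsg.IsSteinerSystem 5 6 A)
  (hlines : ∀ l ∈ lineMasks, pts (7 ||| l) ∈ A)

theorem blk_lt : ∀ k : Fin 3, ∀ a ∈ arcMasks, blk k a < 4096 := by decide +kernel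

theorem bnd : ∀ m ∈ arcMasks, ∀ k : Fin 3, ∀ x : Fin 12,
    pairMask k ||| tri m ||| 2 ^ x.val < 4096 := by decide +kernel

theorem line_lt : ∀ l ∈ lineMasks, 7 ||| l < 4096 := by decide +kernel

include hA in
/-- Two blocks with five common points are equal. -/
theorem eq_of_five {l m : ℕ} (hl : pts l ∈ A) (hm : pts m ∈ A) (hlb : l < 4096) (hmb : m < 4096)
    (h5 : 5 ≤ bits (l &&& m)) : l = m := by
  rw [← card_pts, pts_inter] at h5
  obtain ⟨s, hs, hs5⟩ := exists_subset_card_eq h5
  exact pts_inj hlb hmb ((hA.2 s hs5).unique ⟨hl, hs.trans inter_subset_left⟩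
    ⟨hm, hs.trans inter_subset_right⟩)

include hA hlines in
theorem exists_near {m : ℕ} (hm : m ∈ arcMasks) (k : Fin 3) :
    ∃ a ∈ near m, pts (blk k a) ∈ A := by
  obtain ⟨b, ⟨hb, hsub⟩, -⟩ := hA.2 (pts (pairMask k ||| tri m))
    (by rw [card_pts]; exact (near_check m hm).2.2 k)
  obtain ⟨x, hx⟩ := card_eq_one.1 (show (b \ pts (pairMask k ||| tri m)).card = 1 by
    rw [card_sdiff_of_subset hsub, hA.1 b hb, card_pts, (near_check m hm).2.2 k])
  have hbeq : b = pts (pairMask k ||| tri m ||| 2 ^ x.val) := by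
    rw [← union_sdiff_of_subset hsub, hx]
    ext y
    simp only [pts, mem_union, mem_filter, mem_univ, true_and, mem_singleton, Nat.testBit_or,
      Bool.or_eq_true, Nat.testBit_two_pow, decide_eq_true_eq, Fin.ext_iff, eq_comm (a := x.val)]
  rcases sixth_check m hm k x (by rw [← card_pts, ← hbeq, hA.1 b hb]) with
    ⟨l, hl, hne, h5⟩ | ⟨a, ha, e⟩
  · exact absurd (eq_of_five hA (hlines l hl) (hbeq ▸ hb) (line_lt l hl) (bnd m hm k x) h5) hne
  · exact ⟨a, ha, by rw [← e, ← hbeq]; exact hb⟩

include hA hlines in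
/-- The colour of an arc. -/
theorem exists_colour {m : ℕ} (hm : m ∈ arcMasks) : ∃ k : Fin 3, pts (blk k m) ∈ A := by
  choose f hf hfA using exists_near hA hlines hm
  have hmem : ∀ a ∈ near m, a ∈ arcMasks := fun a ha => (List.mem_filter.1 ha).1
  have hinj : Function.Injective f := by
    intro j k e
    by_contra hne
    obtain ⟨hne', h5⟩ := blk_check j k hne _ (hmem _ (hf k))
    exact hne' (eq_of_five hA (e ▸ hfA j) (hfA k) (blk_lt _ _ (hmem _ (hf k)))
      (blk_lt _ _ (hmem _ (hf k))) h5)
  have himg : univ.image f = (near m).toFinset := by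
    refine eq_of_subset_of_card_le (fun a ha => ?_) ?_
    · obtain ⟨k, -, rfl⟩ := mem_image.1 ha
      exact List.mem_toFinset.2 (hf k)
    · rw [card_image_of_injective _ hinj, card_univ, Fintype.card_fin]
      exact (List.toFinset_card_le _).trans (near_check m hm).2.1.le
  obtain ⟨k, -, hk⟩ := mem_image.1 (himg.symm ▸ List.mem_toFinset.2 (near_check m hm).1)
  exact ⟨k, hk ▸ hfA k⟩

include hA hlines in
/-- The colours are the standard ones up to a renaming. -/
theorem exists_perm : ∃ π : Equiv.Perm (Fin 3), ∀ p ∈ arcs, pts (blk (π p.2) p.1) ∈ A := by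
  have hmask : ∀ p ∈ arcs, p.1 ∈ arcMasks := fun p hp => List.mem_map_of_mem hp
  have hseed : ∀ k : Fin 3, ∃ s ∈ seeds, s.2 = k := by decide +kernel
  choose s hs hsk using hseed
  have hs' : ∀ k, s k ∈ arcs := fun k => List.mem_append_left _ (hs k)
  choose col hcol using fun k => exists_colour hA hlines (hmask _ (hs' k))
  have hinj : Function.Injective col := by
    intro j k e
    by_contra hne
    obtain ⟨hne', h5⟩ := seed_check _ (hs j) _ (hs k) (by rw [hsk, hsk]; exact hne) (col k)
    exact hne' (eq_of_five hA (e ▸ hcol j) (hcol k) (blk_lt _ _ (hmask _ (hs' j)))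
      (blk_lt _ _ (hmask _ (hs' k))) h5)
  let π : Equiv.Perm (Fin 3) := Equiv.ofBijective col hinj.bijective_of_finite
  refine ⟨π, ?_⟩
  have hrest : ∀ (rest : List (ℕ × Fin 3 × ℕ × ℕ)) (known : List (ℕ × Fin 3)),
      (∀ r ∈ rest, r ∈ steps) → (∀ p ∈ known, pts (blk (π p.2) p.1) ∈ A) →
      forced known rest = true →
      ∀ p ∈ known ++ rest.map (fun r => (r.1, r.2.1)), pts (blk (π p.2) p.1) ∈ A := by
    intro rest
    induction rest with
    | nil => intro known _ hk _ p hp; exact hk p (by simpa using hp)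
    | cons r rest ih =>
      intro known hr hk hf
      obtain ⟨m, c, a, b⟩ := r
      simp only [forced, Bool.and_eq_true, List.any_eq_true, beq_iff_eq, decide_eq_true_eq] at hf
      obtain ⟨⟨p, hp, hpa, q, hq, hqb, hpq, hcp, hcq⟩, hf'⟩ := hf
      have hst := hr _ List.mem_cons_self
      have hmA : m ∈ arcMasks :=
        hmask (m, c) (List.mem_append_right _ (List.mem_map.2 ⟨_, hst, rfl⟩))
      obtain ⟨k, hkA⟩ := exists_colour hA hlines hmA
      obtain ⟨⟨hna, h5a⟩, hnb, h5b⟩ := adj_check _ hst k
      simp only at hna h5a hnb h5b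
      have hlt : ∀ n, n ∈ arcMasks → blk k n < 4096 := blk_lt k
      have hkp : k ≠ π p.2 := by
        intro e
        by_cases hA' : a ∈ arcMasks
        · have := hk p hp
          rw [hpa, ← e] at this
          exact hna (eq_of_five hA this hkA (hlt a hA') (hlt m hmA) h5a)
        · exact hA' ((by decide +kernel : ∀ s ∈ steps, s.2.2.1 ∈ arcMasks ∧ s.2.2.2 ∈ arcMasks)
            _ hst).1
      have hkq : k ≠ π q.2 := by
        intro e
        have hB' := ((by decide +kernel : ∀ s ∈ steps, s.2.2.1 ∈ arcMasks ∧ s.2.2.2 ∈ arcMasks)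
            _ hst).2
        have := hk q hq
        rw [hqb, ← e] at this
        exact hnb (eq_of_five hA this hkA (hlt b hB') (hlt m hmA) h5b)
      have hkc : π c = k := by
        have h3 : ∀ x y z w : Fin 3, x ≠ y → z ≠ x → z ≠ y → w ≠ x → w ≠ y → z = w := by decide
        exact h3 (π p.2) (π q.2) (π c) k (π.injective.ne hpq) (π.injective.ne hcp)
          (π.injective.ne hcq) hkp hkq
      have := ih (known ++ [(m, c)]) (fun r hr' => hr r (List.mem_cons_of_mem _ hr')) (by
        intro x hx
        rcases List.mem_append.1 hx with hx | hx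
        · exact hk x hx
        · rw [List.mem_singleton] at hx; subst hx; exact hkc ▸ hkA) hf'
      intro x hx
      refine this x ?_
      simpa [List.append_assoc] using hx
  intro p hp
  refine hrest steps seeds (fun r hr => hr) ?_ forced_steps p hp
  intro q hq
  have h := hcol q.2
  have hq' : s q.2 = q := by
    have : ∀ q ∈ seeds, ∀ r ∈ seeds, r.2 = q.2 → r = q := by decide +kernel
    exact this q hq _ (hs q.2) (hsk q.2)
  rw [hq'] at h
  exact h

end Standard

/-- Renaming the letters. -/
def letters (π : Equiv.Perm (Fin 3)) : Equiv.Perm (Fin 12) :=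
  π.viaFintypeEmbedding ⟨Fin.castLE (by norm_num), Fin.castLE_injective _⟩

theorem letters_check : ∀ π : Equiv.Perm (Fin 3),
    (∀ l ∈ lineMasks, (pts (7 ||| l)).image (letters π) = pts (7 ||| l)) ∧
      ∀ p ∈ arcs, (pts (blk p.2 p.1)).image (letters π) = pts (blk (π p.2) p.1) := by
  decide +kernel

theorem half_cases : ∀ m ∈ halfMasks,
    (∃ l ∈ lineMasks, m = 7 ||| l) ∨ ∃ p ∈ arcs, m = blk p.2 p.1 := by
  intro m hm
  rcases List.mem_append.1 hm with h | h
  · obtain ⟨l, hl, rfl⟩ := List.mem_map.1 h
    exact Or.inl ⟨l, hl, rfl⟩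
  · obtain ⟨p, hp, rfl⟩ := List.mem_map.1 h
    exact Or.inr ⟨p, hp, rfl⟩

variable {α β : Type*} [Fintype α] [DecidableEq α] [Fintype β] [DecidableEq β] {B : Set (Finset α)}

theorem card_stdBlocks : stdBlocks.card = 132 := by
  rw [stdBlocks, card_image_of_injOn, List.toFinset_card_of_nodup blockMasks_nodup,
    blockMasks_length]
  intro a ha b hb e
  rw [mem_coe, List.mem_toFinset] at ha hb
  exact pts_inj (masks_lt.2.2 a ha) (masks_lt.2.2 b hb) e

theorem low_check : ∀ x : Fin 12, x ∈ pts 7 ↔ x.val < 3 := by decide +kernel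

theorem plane_check : ∀ l ∈ lineMasks, ∀ x ∈ pts l, 3 ≤ x.val := by decide +kernel

theorem pts_or (l m : ℕ) : pts (l ||| m) = pts l ∪ pts m := by
  ext x; simp [pts, Nat.testBit_or]

/-- Coordinates with a given set of three points in the place of the letters. -/
theorem exists_coords (hα : Fintype.card α = 12) (hB : Cfsg.IsSteinerSystem 5 6 B) (T : Finset α)
    (hT : T.card = 3) : ∃ e : Fin 12 ≃ α, (pts 7).image e = T ∧ ∀ c, c ∈ stdBlocks ↔ c.image e ∈ B := by
  classical
  have hL : Cfsg.IsSteinerSystem 2 3 (Hexad22.derivedSys B T) := by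
    simpa [hT] using Hexad22.derived_steiner (D := T) (by omega) (by omega) hB
  have hcard : Fintype.card {x : α // x ∉ T} = 9 := by
    rw [Hexad22.card_points_derived, hα, hT]
  obtain ⟨g, hg⟩ := exists_plane hcard hL
  let τ := (T.equivFinOfCardEq hT).symm
  let e0 : Fin 12 → α := fun x => if h : 3 ≤ x.val then (g ⟨x, h⟩ : α) else (τ ⟨x.val, by omega⟩ : α)
  have he0 : Function.Bijective e0 := by
    refine (Fintype.bijective_iff_injective_and_card _).2 ⟨?_, by simp [hα]⟩
    intro x y hxy
    simp only [e0] at hxy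
    by_cases hx : 3 ≤ x.val <;> by_cases hy : 3 ≤ y.val <;> simp only [hx, hy, dif_pos, dif_neg,
      not_false_eq_true] at hxy
    · exact congrArg Subtype.val (g.injective (Subtype.val_injective hxy))
    · exact absurd (τ _).2 (hxy ▸ (g _).2)
    · exact absurd (τ _).2 (hxy.symm ▸ (g _).2)
    · exact Fin.ext (Fin.mk.inj_iff.1 (τ.injective (Subtype.val_injective hxy)))
  set e := Equiv.ofBijective e0 he0
  have he7 : (pts 7).image e = T := by
    refine eq_of_subset_of_card_le (fun p hp => ?_) ?_
    · obtain ⟨x, hx, rfl⟩ := mem_image.1 hp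
      have hlt := (low_check x).1 hx
      show e0 x ∈ T
      simp only [e0, dif_neg (not_le.2 hlt)]
      exact (τ _).2
    · rw [hT, card_image_of_injective _ e.injective, card_pts]
      decide
  -- the pulled back system
  let A : Set (Finset (Fin 12)) := {c | c.image e ∈ B}
  have hA : Cfsg.IsSteinerSystem 5 6 A := by
    refine ⟨fun c hc => ?_, fun s hs => ?_⟩
    · rw [← hB.1 _ hc, card_image_of_injective _ e.injective]
    · obtain ⟨b, ⟨hb, hsb⟩, hu⟩ :=
        hB.2 (s.image e) (by rw [card_image_of_injective _ e.injective, hs])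
      refine ⟨b.image e.symm, ⟨?_, fun x hx => ?_⟩, ?_⟩
      · show (b.image e.symm).image e ∈ B
        rw [image_image]; simpa using hb
      · exact mem_image.2 ⟨e x, hsb (mem_image_of_mem _ hx), e.symm_apply_apply x⟩
      · rintro c ⟨hc, hsc⟩
        rw [← hu _ ⟨hc, image_subset_image hsc⟩, image_image]
        simp
  have hlines : ∀ l ∈ lineMasks, pts (7 ||| l) ∈ A := by
    intro l hl
    show (pts (7 ||| l)).image e ∈ B
    have h := hg l hl
    simp only [Hexad22.derivedSys, Set.mem_ofPred_eq] at h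
    rw [pts_or, image_union, he7]
    convert h using 2
    rw [map_eq_image, image_image]
    ext p
    simp only [mem_image, mem_subtype, Function.comp_apply, Function.Embedding.coe_subtype]
    constructor
    · rintro ⟨x, hx, rfl⟩
      refine ⟨⟨x, plane_check l hl x hx⟩, hx, ?_⟩
      show _ = e0 x
      simp [e0, plane_check l hl x hx]
    · rintro ⟨x, hx, rfl⟩
      refine ⟨x.1, hx, ?_⟩
      show e0 x.1 = _
      simp [e0, x.2]
  obtain ⟨π, hπ⟩ := exists_perm hA hlines
  set f : Fin 12 ≃ α := (letters π).trans e with hf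
  have hfimg : ∀ c : Finset (Fin 12), c.image f = (c.image (letters π)).image e := fun c => by
    rw [image_image]; rfl
  refine ⟨f, ?_, ?_⟩
  · have : ∀ π : Equiv.Perm (Fin 3), (pts 7).image (letters π) = pts 7 := by decide +kernel
    rw [hfimg, this, he7]
  have hhalf : ∀ m ∈ halfMasks, (pts m).image f ∈ B := by
    intro m hm
    rw [hfimg]
    rcases half_cases m hm with ⟨l, hl, rfl⟩ | ⟨p, hp, rfl⟩
    · rw [(letters_check π).1 l hl]; exact hlines l hl
    · rw [(letters_check π).2 p hp]; exact hπ p hp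
  have hsub : stdBlocks.image (fun c => c.image f) ⊆ Steiner.blocksF B := by
    intro b hb
    obtain ⟨c, hc, rfl⟩ := mem_image.1 hb
    obtain ⟨m, hm, rfl⟩ := mem_image.1 hc
    rw [List.mem_toFinset] at hm
    rw [Steiner.mem_blocksF]
    rcases List.mem_append.1 hm with hm | hm
    · exact hhalf m hm
    · obtain ⟨m', hm', rfl⟩ := List.mem_map.1 hm
      have hc : (pts (4095 - m')).image f = ((pts m').image f)ᶜ := by
        rw [pts_compl m' (masks_lt.1 m' hm')]
        ext p
        obtain ⟨x, rfl⟩ := f.surjective p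
        simp only [mem_compl, f.injective.mem_finset_image]
      rw [hc]
      exact Steiner.S5612_compl hα hB (hhalf m' hm')
  have h132 : (Steiner.blocksF B).card = 132 := by
    have := Steiner.card_through hB (∅ : Finset α) (by simp)
    simp [filter_true_of_mem, hα, Nat.choose] at this
    omega
  have heq := eq_of_subset_of_card_le hsub (by
    rw [card_image_of_injective _ (Finset.image_injective f.injective), card_stdBlocks, h132])
  intro c
  rw [← Steiner.mem_blocksF, ← heq]
  exact ((Finset.image_injective f.injective).mem_finset_image).symm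

/-- Any two Steiner systems S(5,6,12) are isomorphic. -/
theorem exists_iso_12 {B' : Set (Finset β)} (hα : Fintype.card α = 12) (hβ : Fintype.card β = 12)
    (hB : Cfsg.IsSteinerSystem 5 6 B) (hB' : Cfsg.IsSteinerSystem 5 6 B') :
    ∃ e : α ≃ β, ∀ b : Finset α, b ∈ B ↔ b.image e ∈ B' := by
  obtain ⟨T, -, hT⟩ := exists_subset_card_eq (s := (univ : Finset α)) (n := 3)
    (by rw [card_univ, hα]; norm_num)
  obtain ⟨U, -, hU⟩ := exists_subset_card_eq (s := (univ : Finset β)) (n := 3)
    (by rw [card_univ, hβ]; norm_num)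
  obtain ⟨e, -, he⟩ := exists_coords hα hB T hT
  obtain ⟨e', -, he'⟩ := exists_coords hβ hB' U hU
  refine ⟨e.symm.trans e', fun b => ?_⟩
  have h1 : (b.image e.symm).image e = b := by rw [image_image]; simp
  conv_lhs => rw [← h1, ← he, he', image_image]
  rfl

end Cfsg.Agent.Hexad12
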